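import Cfsg.Agent.H581.EP.Extra
import Cfsg.Agent.H812.EP.Ly
import Cfsg.Agent.H805.EPT.SporUB
import Cfsg.Agent.H498.SporOut
import Cfsg.Agent.NotCT.Orders
import Cfsg.Agent.H602.Der.HSFive

/-!
# S3499-V, row `soc(A) = HS` (helper581)

UB1 + UB2 : `|Q| < 2 ^ 110`, hence `|F| = 2`, `n ≤ 15`; but `5 ^ {1 + 2} < HS` needs `n ≥ 20` over `F_2`.
-/

set_option autoImplicit false

namespace Cfsg.Agent.H581.EP

open Subgroup Cfsg Cfsg.Agent.H284 Cfsg.Agent.H419.EP Cfsg.Agent.H59.EP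
open scoped MatrixGroups

/-- `5 ^ {1 + 2}` in `HS` -/
theorem heis_hs {L : Type*} [Group L] (h : Spor.IsoHS L) : ∃ x z : L, ∃ y : L, x ^ 5 = 1 ∧
    Heis 5 1 (fun _ => x) (fun _ => y) z := by
  obtain ⟨D, ψ, Rp⟩ := H904.HSCent.exists_rep h
  obtain ⟨u, v, c, w, hu, hv, hc5, huc, hvc, huv, -⟩ := H602.Der.HSFive.exists_five' Rp
  refine ⟨u, c, v, by rw [← hu, pow_orderOf_eq_one], Heis.one huc hvc huv (by rw [← hc5, pow_orderOf_eq_one]) ?_⟩
  rintro rfl
  rw [orderOf_one] at hc5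
  norm_num at hc5

/-- **Row `soc(A) = HS`** -/
theorem hs (hg : TwoGen.{0}) : BigOf (fun L _ => Spor.IsoHS L) := by
  intro Q _ _ A Γ ι _ _ F _ _ S P b h
  have hc := NotCT.Orders.hs h
  have hfin : Finite (socle P) := Nat.finite_of_card_ne_zero (by rw [hc]; norm_num)
  have hsp : IsSporadicGroup (socle P) := by
    unfold IsSporadicGroup
    tauto
  have hA : Nat.card A ∣ 88704000 := by
    rcases H805.EPT.cardA b.hasSoc b.core.simple (by rw [hc]; norm_num) (H498.SporOut.index_le_two hsp) with h1 | h1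
    · rw [h1, hc]; norm_num
    · rw [h1, hc]
  have hQ := H812.EP.card_le hg b [(2, 10), (3, 2), (5, 3), (7, 1), (11, 1)] (by decide +kernel) (by decide +kernel)
    (N := 88704000) (by decide +kernel) hA (by norm_num)
  have hQ2 : Nat.card Q < 2 ^ 110 := lt_of_le_of_lt hQ (by decide +kernel)
  have hord := b.ord
  have hn := b.thirteen
  have h2 := b.two_le
  -- `|F| = 2`
  have hF : Fintype.card F = 2 := by
    by_contra hne
    have h3 : 3 ^ 78 ≤ Fintype.card F ^ (Fintype.card ι * (Fintype.card ι - 1) / 2) :=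
      (Nat.pow_le_pow_left (by omega) _).trans (Nat.pow_le_pow_right (by omega)
        ((by norm_num : 78 ≤ 13 * (13 - 1) / 2).trans (Nat.div_le_div_right (Nat.mul_le_mul hn (by omega)))))
    have h4 : 8 * (2 : ℕ) ^ 110 < 3 ^ 78 := by norm_num
    omega
  obtain ⟨x, z, y, hx, hz⟩ := heis_hs h
  have h20 : 5 ^ 1 * 4 ≤ Fintype.card ι := hz.mul_le (by norm_num) (by rw [hF]; norm_num) (by norm_num) (by
    intro j h1 h2
    rw [hF]
    interval_cases j <;> norm_num) (fun _ => hx)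
  have h5 := b.ord_two (N := 20) h20
  have h6 : 8 * (2 : ℕ) ^ 110 < 2 ^ (20 * (20 - 1) / 2) := by norm_num
  omega

end Cfsg.Agent.H581.EP
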